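import Mathlib
import Cfsg.Agent.Lib.Helper9.Simple

set_option autoImplicit false
set_option linter.style.haveILetI false
set_option linter.unusedSectionVars false

namespace Cfsg.Agent.Lib.Helper67.J3Simple

open scoped Pointwise

/-- the fixed subgroup of an automorphism -/
def fixSub {G : Type*} [Group G] (σ : MulAut G) : Subgroup G where
  carrier := {g | σ g = g}
  mul_mem' := by
    intro a b ha hb
    show σ (a * b) = a * b
    rw [map_mul, ha, hb]
  one_mem' := map_one σ
  inv_mem' := by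
    intro a ha
    show σ a⁻¹ = a⁻¹
    rw [map_inv, ha]

theorem mem_fixSub {G : Type*} [Group G] (σ : MulAut G) (g : G) : g ∈ fixSub σ ↔ σ g = g :=
  Iff.rfl

theorem zpowers_isPGroup {G : Type*} [Group G] (σ : MulAut G) (ℓ : ℕ) [Fact ℓ.Prime]
    (hσ : σ ^ ℓ = 1) : IsPGroup ℓ (Subgroup.zpowers σ) := by
  have h1 : Nat.card (Subgroup.zpowers σ) ∣ ℓ := by
    rw [Nat.card_zpowers]
    exact orderOf_dvd_of_pow_eq_one hσ
  rcases (Nat.dvd_prime Fact.out).mp h1 with h2 | h2
  · exact IsPGroup.of_card (n := 0) (by rw [h2, pow_zero])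
  · exact IsPGroup.of_card (n := 1) (by rw [h2, pow_one])

/-- an automorphism of prime order `ℓ` of an `r`-group whose order is not congruent to the
order of a proper subgroup is trivial -/
theorem aut_pgroup_trivial {H : Type*} [Group H] [Finite H] (τ : MulAut H) (ℓ : ℕ)
    [Fact ℓ.Prime] (hτ : τ ^ ℓ = 1) (r e : ℕ) (hr : r.Prime) (hcard : Nat.card H = r ^ e)
    (harith : ∀ c ≤ e, r ^ c ≡ r ^ e [MOD ℓ] → c = e) : τ = 1 := by
  have hZ := zpowers_isPGroup τ ℓ hτ
  have h1 := hZ.card_modEq_card_fixedPoints H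
  have h2 : Nat.card (MulAction.fixedPoints (Subgroup.zpowers τ) H) = Nat.card (fixSub τ) := by
    apply Nat.card_congr
    refine Equiv.subtypeEquivRight ?_
    intro g
    constructor
    · intro hg
      exact hg ⟨τ, Subgroup.mem_zpowers τ⟩
    · intro hg z
      obtain ⟨z, hz⟩ := z
      obtain ⟨m, rfl⟩ := Subgroup.mem_zpowers_iff.mp hz
      exact MulAction.mem_stabilizer_iff.mp (Subgroup.zpow_mem (MulAction.stabilizer (MulAut H) g)
        (MulAction.mem_stabilizer_iff.mpr hg) m)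
  have h3 : Nat.card (fixSub τ) ∣ r ^ e := by
    rw [← hcard]
    exact Subgroup.card_subgroup_dvd_card _
  obtain ⟨c, hc, hc'⟩ := (Nat.dvd_prime_pow hr).mp h3
  rw [h2, hc', hcard] at h1
  have h4 := harith c hc h1.symm
  have h5 : fixSub τ = ⊤ := by
    apply Subgroup.eq_top_of_card_eq
    rw [hc', h4, hcard]
  ext g
  have h6 : g ∈ fixSub τ := by
    rw [h5]
    exact Subgroup.mem_top g
  exact h6

/-- an invariant Sylow subgroup is fixed elementwise -/
theorem sylow_fixed {G : Type*} [Group G] [Finite G] (σ : MulAut G) (ℓ : ℕ) [Fact ℓ.Prime]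
    (hσ : σ ^ ℓ = 1) (r : ℕ) [Fact r.Prime] (hℓ : ¬ ℓ ∣ Nat.card G)
    (harith : ∀ c ≤ (Nat.card G).factorization r,
      r ^ c ≡ r ^ ((Nat.card G).factorization r) [MOD ℓ] → c = (Nat.card G).factorization r) :
    r ^ ((Nat.card G).factorization r) ∣ Nat.card (fixSub σ) := by
  have hZ := zpowers_isPGroup σ ℓ hσ
  have h1 := hZ.card_modEq_card_fixedPoints (Sylow r G)
  have hne : (MulAction.fixedPoints (Subgroup.zpowers σ) (Sylow r G)).Nonempty := by
    by_contra hemp
    rw [Set.not_nonempty_iff_eq_empty] at hemp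
    rw [hemp] at h1
    have h2 : Nat.card (Sylow r G) ≡ 0 [MOD ℓ] := by simpa using h1
    have h3 : ℓ ∣ Nat.card (Sylow r G) := (Nat.modEq_zero_iff_dvd).mp h2
    obtain ⟨P⟩ : Nonempty (Sylow r G) := inferInstance
    have h4 := h3.trans (Sylow.card_dvd_index P)
    exact hℓ (h4.trans (Subgroup.index_dvd_card _))
  obtain ⟨P, hP⟩ := hne
  have hσP : σ • P = P := hP ⟨σ, Subgroup.mem_zpowers σ⟩
  have hσP' : σ⁻¹ • P = P := hP ⟨σ⁻¹, Subgroup.inv_mem _ (Subgroup.mem_zpowers σ)⟩
  have hmem : ∀ g ∈ P, σ g ∈ P := by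
    intro g hg
    have h2 := Subgroup.smul_mem_pointwise_smul g σ (P : Subgroup G) hg
    rw [← Sylow.pointwise_smul_def, hσP] at h2
    exact h2
  have hmem' : ∀ g ∈ P, σ⁻¹ g ∈ P := by
    intro g hg
    have h2 := Subgroup.smul_mem_pointwise_smul g σ⁻¹ (P : Subgroup G) hg
    rw [← Sylow.pointwise_smul_def, hσP'] at h2
    exact h2
  let τ : MulAut ↥(P : Subgroup G) :=
    { toFun := fun x => ⟨σ x, hmem x x.2⟩
      invFun := fun x => ⟨σ⁻¹ x, hmem' x x.2⟩
      left_inv := fun x => Subtype.ext (by simp)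
      right_inv := fun x => Subtype.ext (by simp)
      map_mul' := fun x y => Subtype.ext (by simp) }
  have hpow : ∀ m : ℕ, ∀ x : ↥(P : Subgroup G), ((τ ^ m) x : G) = (σ ^ m) (x : G) := by
    intro m
    induction m with
    | zero =>
      intro x
      rfl
    | succ m ih =>
      intro x
      rw [pow_succ, pow_succ, MulAut.mul_apply, MulAut.mul_apply, ih]
      rfl
  have hτ : τ ^ ℓ = 1 := by
    ext x
    rw [hpow, hσ]
    rfl
  have hτ1 := aut_pgroup_trivial τ ℓ hτ r _ Fact.out (Sylow.card_eq_multiplicity P) harith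
  have hle : (P : Subgroup G) ≤ fixSub σ := by
    intro g hg
    have h2 := congrArg (fun f : MulAut ↥(P : Subgroup G) =>
      ((f ⟨g, hg⟩ : ↥(P : Subgroup G)) : G)) hτ1
    exact h2
  rw [← Sylow.card_eq_multiplicity P]
  exact Subgroup.card_dvd_of_le hle

theorem aut19_trivial {G : Type*} [Group G] [Finite G] (σ : MulAut G) (hσ : σ ^ 19 = 1)
    (i j : ℕ) (hi : i ≤ 7) (hj : j ≤ 5) (hcard : Nat.card G = 2 ^ i * 3 ^ j) : σ = 1 := by
  haveI : Fact (Nat.Prime 19) := ⟨by norm_num⟩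
  haveI : Fact (Nat.Prime 2) := ⟨Nat.prime_two⟩
  haveI : Fact (Nat.Prime 3) := ⟨Nat.prime_three⟩
  have hn19 : ¬ 19 ∣ Nat.card G := by
    rw [hcard]
    intro h
    rcases (Nat.Prime.dvd_mul (by norm_num)).mp h with h1 | h1
    · have h2 := Nat.Prime.dvd_of_dvd_pow (by norm_num) h1
      omega
    · have h2 := Nat.Prime.dvd_of_dvd_pow (by norm_num) h1
      omega
  have hf2 : (Nat.card G).factorization 2 = i := by
    rw [hcard, Nat.factorization_mul (by positivity) (by positivity), Nat.factorization_pow,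
      Nat.factorization_pow]
    simp [Nat.Prime.factorization Nat.prime_two, Nat.Prime.factorization Nat.prime_three]
  have hf3 : (Nat.card G).factorization 3 = j := by
    rw [hcard, Nat.factorization_mul (by positivity) (by positivity), Nat.factorization_pow,
      Nat.factorization_pow]
    simp [Nat.Prime.factorization Nat.prime_two, Nat.Prime.factorization Nat.prime_three]
  have ar2 : ∀ i ≤ 7, ∀ c ≤ i, 2 ^ c ≡ 2 ^ i [MOD 19] → c = i := by decide
  have ar3 : ∀ j ≤ 5, ∀ c ≤ j, 3 ^ c ≡ 3 ^ j [MOD 19] → c = j := by decide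
  have d2 := sylow_fixed σ 19 hσ 2 hn19 (by rw [hf2]; exact ar2 i hi)
  have d3 := sylow_fixed σ 19 hσ 3 hn19 (by rw [hf3]; exact ar3 j hj)
  rw [hf2] at d2
  rw [hf3] at d3
  have hcop : Nat.Coprime (2 ^ i) (3 ^ j) := Nat.Coprime.pow _ _ (by norm_num)
  have d := hcop.mul_dvd_of_dvd_of_dvd d2 d3
  rw [← hcard] at d
  have h5 : fixSub σ = ⊤ := Subgroup.eq_top_of_le_card _ (Nat.le_of_dvd Nat.card_pos d)
  ext g
  have h6 : g ∈ fixSub σ := by
    rw [h5]
    exact Subgroup.mem_top g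
  exact h6

/-- an element of prime order `p` lies in every normal subgroup of order divisible by `p`,
if `p ^ 2` does not divide the group order -/
theorem mem_of_dvd_card {Q : Type*} [Group Q] [Finite Q] {p : ℕ} [Fact p.Prime]
    (hp2 : ¬ p ^ 2 ∣ Nat.card Q) (x : Q) (hx : orderOf x = p) (N : Subgroup Q) (hN : N.Normal)
    (hpN : p ∣ Nat.card N) : x ∈ N := by
  have hcard : Nat.card (Subgroup.zpowers x) = p := by rw [Nat.card_zpowers, hx]
  have hpg : IsPGroup p (Subgroup.zpowers x) :=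
    IsPGroup.of_card (n := 1) (by rw [hcard, pow_one])
  obtain ⟨P, hP⟩ := hpg.exists_le_sylow
  obtain ⟨n, hn⟩ := IsPGroup.iff_card.mp P.isPGroup'
  have h1 : p ∣ p ^ n := by
    have h0 := Subgroup.card_dvd_of_le hP
    rw [hcard, hn] at h0
    exact h0
  have h2 : p ^ n ∣ Nat.card Q := by
    rw [← hn]
    exact Subgroup.card_subgroup_dvd_card _
  have hn1 : n = 1 := by
    rcases Nat.lt_or_ge n 2 with h3 | h3
    · rcases Nat.eq_zero_or_pos n with h4 | h4
      · rw [h4, pow_zero] at h1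
        have := (Fact.out : p.Prime).one_lt
        have := Nat.le_of_dvd Nat.one_pos h1
        omega
      · omega
    · exact absurd ((pow_dvd_pow p h3).trans h2) hp2
  rw [hn1, pow_one] at hn
  exact Cfsg.Agent.Lib.Helper9.sylow_le_of_dvd_card P hn N hN hpN (hP (Subgroup.mem_zpowers x))

theorem simple_of_J3_data {Q : Type*} [Group Q] [Finite Q] (hcard : Nat.card Q = 50232960)
    (hZ : Subgroup.center Q = ⊥) (g17 y1 y2 z1 z2 : Q) (h17 : orderOf g17 = 17)
    (hgen : ∀ N : Subgroup Q, N.Normal → g17 ∈ N → N = ⊤)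
    (hy1 : orderOf y1 = 19) (hy2 : orderOf y2 = 19) (hy : y1 * y2 = g17)
    (hz1 : orderOf z1 = 5) (hz2 : orderOf z2 = 5) (hz : z1 * z2 = g17) : IsSimpleGroup Q := by
  haveI : Fact (Nat.Prime 19) := ⟨by norm_num⟩
  haveI : Fact (Nat.Prime 17) := ⟨by norm_num⟩
  haveI : Fact (Nat.Prime 5) := ⟨by norm_num⟩
  haveI : Nontrivial Q := by
    rw [← Finite.one_lt_card_iff_nontrivial, hcard]
    norm_num
  have h19sq : ¬ 19 ^ 2 ∣ Nat.card Q := by rw [hcard]; norm_num
  have h17sq : ¬ 17 ^ 2 ∣ Nat.card Q := by rw [hcard]; norm_num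
  have h5sq : ¬ 5 ^ 2 ∣ Nat.card Q := by rw [hcard]; norm_num
  -- normal subgroups of order divisible by 17, 19 or 5 are everything
  have key : ∀ N : Subgroup Q, N.Normal →
      (17 ∣ Nat.card N ∨ 19 ∣ Nat.card N ∨ 5 ∣ Nat.card N) → N = ⊤ := by
    intro N hN hdiv
    apply hgen N hN
    rcases hdiv with h | h | h
    · exact mem_of_dvd_card h17sq g17 h17 N hN h
    · rw [← hy]
      exact N.mul_mem (mem_of_dvd_card h19sq y1 hy1 N hN h) (mem_of_dvd_card h19sq y2 hy2 N hN h)
    · rw [← hz]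
      exact N.mul_mem (mem_of_dvd_card h5sq z1 hz1 N hN h) (mem_of_dvd_card h5sq z2 hz2 N hN h)
  refine ⟨fun N hN => ?_⟩
  by_cases hdiv : 17 ∣ Nat.card N ∨ 19 ∣ Nat.card N ∨ 5 ∣ Nat.card N
  · exact Or.inr (key N hN hdiv)
  · left
    push Not at hdiv
    obtain ⟨hd17, hd19, hd5⟩ := hdiv
    have hdvd : Nat.card N ∣ 2 ^ 7 * 3 ^ 5 * (5 * 17 * 19) := by
      have h1 := Subgroup.card_subgroup_dvd_card N
      rw [hcard] at h1
      exact h1
    have hc5 : Nat.Coprime (Nat.card N) 5 :=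
      (Nat.Coprime.symm ((Nat.Prime.coprime_iff_not_dvd (by norm_num)).mpr hd5))
    have hc17 : Nat.Coprime (Nat.card N) 17 :=
      (Nat.Coprime.symm ((Nat.Prime.coprime_iff_not_dvd (by norm_num)).mpr hd17))
    have hc19 : Nat.Coprime (Nat.card N) 19 :=
      (Nat.Coprime.symm ((Nat.Prime.coprime_iff_not_dvd (by norm_num)).mpr hd19))
    have hcop : Nat.Coprime (Nat.card N) (5 * 17 * 19) :=
      Nat.Coprime.mul_right (Nat.Coprime.mul_right hc5 hc17) hc19
    have hdvd2 : Nat.card N ∣ 2 ^ 7 * 3 ^ 5 := hcop.dvd_of_dvd_mul_right hdvd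
    have hg : Nat.card N = Nat.gcd (Nat.card N) (2 ^ 7) * Nat.gcd (Nat.card N) (3 ^ 5) := by
      rw [← Nat.Coprime.gcd_mul _ (by norm_num : Nat.Coprime (2 ^ 7) (3 ^ 5))]
      exact (Nat.gcd_eq_left hdvd2).symm
    obtain ⟨i, hi, hi'⟩ := (Nat.dvd_prime_pow Nat.prime_two).mp (Nat.gcd_dvd_right (Nat.card N) (2 ^ 7))
    obtain ⟨j, hj, hj'⟩ := (Nat.dvd_prime_pow Nat.prime_three).mp
      (Nat.gcd_dvd_right (Nat.card N) (3 ^ 5))
    rw [hi', hj'] at hg
    -- conjugation by `y1` is trivial on `N`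
    have hconj : (MulAut.conjNormal y1 : MulAut N) ^ 19 = 1 := by
      rw [← map_pow, ← hy1, pow_orderOf_eq_one, map_one]
    have h1 := aut19_trivial (MulAut.conjNormal y1 : MulAut N) hconj i j hi hj hg
    have hy1C : y1 ∈ Subgroup.centralizer (N : Set Q) := by
      rw [Subgroup.mem_centralizer_iff]
      intro n hn
      have h2 := congrArg (fun f : MulAut N => ((f ⟨n, hn⟩ : N) : Q)) h1
      simp only [MulAut.conjNormal_apply, MulAut.one_apply] at h2
      calc n * y1 = (y1 * n * y1⁻¹) * y1 := by rw [h2]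
        _ = y1 * n := by group
    have hCn : (Subgroup.centralizer (N : Set Q)).Normal := inferInstance
    have h19C : 19 ∣ Nat.card (Subgroup.centralizer (N : Set Q)) := by
      rw [← hy1]
      exact Subgroup.orderOf_dvd_natCard _ hy1C
    have hCtop := key _ hCn (Or.inr (Or.inl h19C))
    rw [Subgroup.eq_bot_iff_forall]
    intro n hn
    have h3 : n ∈ Subgroup.center Q := by
      rw [Subgroup.mem_center_iff]
      intro g
      have hg' : g ∈ Subgroup.centralizer (N : Set Q) := by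
        rw [hCtop]
        exact Subgroup.mem_top g
      exact (Subgroup.mem_centralizer_iff.mp hg' n hn).symm
    rw [hZ, Subgroup.mem_bot] at h3
    exact h3

end Cfsg.Agent.Lib.Helper67.J3Simple
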