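import Mathlib
import Cfsg.Agent.Lib.Helper8.TPFront

/-!
Project TP (S4033), FRONT piece CASE1 (helper67 for helper8 / helper4): if `q` is the only prime
different from `p` with noncentral `q`-elements, then `G = (P ⊔ Q) × A` with `A` central.
-/

set_option autoImplicit false

namespace Cfsg.Agent.Lib.Helper67.TP

open Cfsg.Agent.Lib.Helper8.TP

universe u

/-- the central elements of order prime to `p * q` -/
def case1A (p q : ℕ) (G : Type u) [Group G] : Subgroup G where
  carrier := {z | z ∈ Subgroup.center G ∧ (orderOf z).Coprime (p * q)}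
  mul_mem' := by
    rintro a b ⟨ha, ha'⟩ ⟨hb, hb'⟩
    refine ⟨Subgroup.mul_mem _ ha hb, ?_⟩
    have hc : Commute a b := Subgroup.mem_center_iff.1 hb a
    exact Nat.Coprime.coprime_dvd_left
      (dvd_trans hc.orderOf_mul_dvd_lcm (Nat.lcm_dvd_mul _ _)) (Nat.Coprime.mul_left ha' hb')
  one_mem' := ⟨Subgroup.one_mem _, by simp⟩
  inv_mem' := by
    rintro a ⟨ha, ha'⟩
    exact ⟨Subgroup.inv_mem _ ha, by rwa [orderOf_inv]⟩

theorem case1_le_center (p q : ℕ) (G : Type u) [Group G] : case1A p q G ≤ Subgroup.center G :=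
  fun _ hz => hz.1

theorem case1_not_dvd_index {G : Type u} [Group G] [Finite G] (p q : ℕ) (hp : p.Prime)
    (hq : q.Prime) (h : ∀ r : ℕ, NCPrime p r G → r = q) (r : ℕ) (hr : r.Prime) (hrp : r ≠ p)
    (hrq : r ≠ q) : ¬ r ∣ (case1A p q G).index := by
  haveI : Fact r.Prime := ⟨hr⟩
  intro hdvd
  obtain ⟨R⟩ : Nonempty (Sylow r G) := inferInstance
  have hRA : (R : Subgroup G) ≤ case1A p q G := by
    intro x hx
    obtain ⟨k, hk⟩ := R.isPGroup' ⟨x, hx⟩
    have hk' : x ^ r ^ k = 1 := by simpa using congrArg Subtype.val hk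
    obtain ⟨j, -, hj'⟩ := (Nat.dvd_prime_pow hr).1 (orderOf_dvd_of_pow_eq_one hk')
    refine ⟨?_, ?_⟩
    · by_contra hnc
      exact hrq (h r ⟨hr, hrp, x, ⟨j, hj'⟩, hnc⟩)
    · rw [hj']
      apply Nat.Coprime.pow_left
      exact Nat.Coprime.mul_right ((Nat.coprime_primes hr hp).2 hrp)
        ((Nat.coprime_primes hr hq).2 hrq)
  have h1 : (case1A p q G).index ∣ (R : Subgroup G).index := Subgroup.index_dvd_of_le hRA
  exact R.not_dvd_index (dvd_trans hdvd h1)

theorem case1_card_coprime {G : Type u} [Group G] [Finite G] (p q : ℕ) :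
    (Nat.card (case1A p q G)).Coprime (p * q) := by
  apply Nat.coprime_of_dvd
  intro r hr hrA hrpq
  haveI : Fact r.Prime := ⟨hr⟩
  obtain ⟨z, hz⟩ := exists_prime_orderOf_dvd_card' r hrA
  have hz' : orderOf (z : G) = r := by rw [Subgroup.orderOf_coe]; exact hz
  have hcop : (orderOf (z : G)).Coprime (p * q) := z.2.2
  rw [hz'] at hcop
  exact hr.one_lt.ne' (Nat.Coprime.eq_one_of_dvd hcop hrpq)

theorem case1_coprime {G : Type u} [Group G] [Finite G] (p q : ℕ) (hp : p.Prime)
    (hq : q.Prime) (h : ∀ r : ℕ, NCPrime p r G → r = q) :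
    (Nat.card (case1A p q G)).Coprime (case1A p q G).index := by
  apply Nat.coprime_of_dvd
  intro r hr hrA hrI
  have hcop : r.Coprime (p * q) :=
    Nat.Coprime.coprime_dvd_left hrA (case1_card_coprime (G := G) p q)
  have hrp : r ≠ p := by
    rintro rfl
    exact hr.one_lt.ne' (Nat.Coprime.eq_one_of_dvd hcop (dvd_mul_right _ _))
  have hrq : r ≠ q := by
    rintro rfl
    exact hr.one_lt.ne' (Nat.Coprime.eq_one_of_dvd hcop (dvd_mul_left _ _))
  exact case1_not_dvd_index p q hp hq h r hr hrp hrq hrI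

theorem case1_le_of_coprime_index {G : Type u} [Group G] [Finite G] (r : ℕ)
    (H : Subgroup G) [H.Normal] (hcop : (H.index).Coprime r) (R : Subgroup G)
    (hR : IsPGroup r R) : R ≤ H := by
  intro x hx
  obtain ⟨k, hk⟩ := hR ⟨x, hx⟩
  have hk' : x ^ r ^ k = 1 := by simpa using congrArg Subtype.val hk
  have hord : orderOf x ∣ r ^ k := orderOf_dvd_of_pow_eq_one hk'
  have hc : (H.index).Coprime (orderOf x) :=
    Nat.Coprime.coprime_dvd_right hord (Nat.Coprime.pow_right k hcop)
  obtain ⟨m, hm⟩ := exists_pow_eq_self_of_coprime hc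
  rw [← hm]
  exact H.pow_mem (H.pow_index_mem x) m

theorem case1_normal {G : Type u} [Group G] (A H : Subgroup G) (hA : A ≤ Subgroup.center G)
    (hH : Subgroup.IsComplement' A H) : H.Normal := by
  constructor
  intro n hn g
  obtain ⟨⟨a, b⟩, hab⟩ := hH.2 g
  have hab' : (a : G) * (b : G) = g := hab
  have ha : ∀ x : G, x * (a : G) = (a : G) * x := Subgroup.mem_center_iff.1 (hA a.2)
  have e : g * n * g⁻¹ = (b : G) * n * (b : G)⁻¹ := by
    rw [← hab', mul_inv_rev]
    calc (a : G) * b * n * ((b : G)⁻¹ * (a : G)⁻¹)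
        = (a : G) * ((b : G) * n * (b : G)⁻¹) * (a : G)⁻¹ := by group
      _ = (b : G) * n * (b : G)⁻¹ * (a : G) * (a : G)⁻¹ := by rw [← ha]
      _ = (b : G) * n * (b : G)⁻¹ := by rw [mul_inv_cancel_right]
  rw [e]
  exact H.mul_mem (H.mul_mem b.2 hn) (H.inv_mem b.2)

theorem case1 : CaseIStmt.{u} := by
  intro G _ _ p q hp hq hqp h
  haveI : Fact p.Prime := ⟨hp⟩
  haveI : Fact q.Prime := ⟨hq⟩
  have hAc : case1A p q G ≤ Subgroup.center G := case1_le_center p q G
  haveI hAn : (case1A p q G).Normal := ⟨fun n hn g => by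
    have := Subgroup.mem_center_iff.1 (hAc hn) g
    rw [this, mul_assoc, mul_inv_cancel, mul_one]; exact hn⟩
  obtain ⟨H, hH⟩ := Subgroup.exists_right_complement'_of_coprime (case1_coprime p q hp hq h)
  haveI hHn : H.Normal := case1_normal (case1A p q G) H hAc hH
  have hidx : H.index = Nat.card (case1A p q G) := hH.index_eq_card
  have hcardH : (case1A p q G).index = Nat.card H := hH.symm.index_eq_card
  obtain ⟨P⟩ : Nonempty (Sylow p G) := inferInstance
  obtain ⟨Q⟩ : Nonempty (Sylow q G) := inferInstance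
  have hcopA := case1_card_coprime (G := G) p q
  have hPH : (P : Subgroup G) ≤ H :=
    case1_le_of_coprime_index p H (by rw [hidx]; exact Nat.Coprime.coprime_mul_right_right hcopA)
      P P.isPGroup'
  have hQH : (Q : Subgroup G) ≤ H :=
    case1_le_of_coprime_index q H (by rw [hidx]; exact Nat.Coprime.coprime_mul_left_right hcopA)
      Q Q.isPGroup'
  have hKH : (P : Subgroup G) ⊔ (Q : Subgroup G) ≤ H := sup_le hPH hQH
  have hprimes : ∀ r : ℕ, r.Prime → r ∣ Nat.card H → r = p ∨ r = q := by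
    intro r hr hrH
    by_contra hcon
    push Not at hcon
    exact case1_not_dvd_index p q hp hq h r hr hcon.1 hcon.2 (hcardH ▸ hrH)
  have hHK : H ≤ (P : Subgroup G) ⊔ (Q : Subgroup G) := by
    rw [← Subgroup.relIndex_eq_one]
    by_contra hne
    obtain ⟨r, hr, hrd⟩ := Nat.exists_prime_and_dvd hne
    have h1 : r ∣ Nat.card H := dvd_trans hrd (Subgroup.relIndex_dvd_card _ _)
    have h2 : r ∣ ((P : Subgroup G) ⊔ (Q : Subgroup G)).index := by
      rw [← Subgroup.relIndex_mul_index hKH]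
      exact dvd_mul_of_dvd_left hrd _
    rcases hprimes r hr h1 with h3 | h3
    · rw [h3] at h2
      exact P.not_dvd_index (dvd_trans h2 (Subgroup.index_dvd_of_le le_sup_left))
    · rw [h3] at h2
      exact Q.not_dvd_index (dvd_trans h2 (Subgroup.index_dvd_of_le le_sup_right))
  have hKeq : (P : Subgroup G) ⊔ (Q : Subgroup G) = H := le_antisymm hKH hHK
  have hcopPQ : (Nat.card P).Coprime (Nat.card Q) :=
    IsPGroup.coprime_card_of_ne p q (Ne.symm hqp) (P : Subgroup G) (Q : Subgroup G)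
      P.isPGroup' Q.isPGroup'
  have hdvd : Nat.card P * Nat.card Q ∣ Nat.card ↥((P : Subgroup G) ⊔ (Q : Subgroup G)) :=
    Nat.Coprime.mul_dvd_of_dvd_of_dvd hcopPQ (Subgroup.card_dvd_of_le le_sup_left)
      (Subgroup.card_dvd_of_le le_sup_right)
  obtain ⟨c, hc⟩ := hdvd
  have hc1 : c = 1 := by
    by_contra hne
    obtain ⟨r, hr, hrd⟩ := Nat.exists_prime_and_dvd hne
    have h1 : r ∣ Nat.card H := by
      rw [← hKeq, hc]; exact dvd_mul_of_dvd_right hrd _
    have hG : Nat.card ↥((P : Subgroup G) ⊔ (Q : Subgroup G)) ∣ Nat.card G :=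
      Subgroup.card_subgroup_dvd_card _
    rw [hc] at hG
    rcases hprimes r hr h1 with h3 | h3
    · have h4 : Nat.card P * (Nat.card Q * c) ∣ Nat.card P * (P : Subgroup G).index := by
        rw [Subgroup.card_mul_index, ← mul_assoc]; exact hG
      have h5 := Nat.dvd_of_mul_dvd_mul_left Nat.card_pos h4
      rw [h3] at hrd
      exact P.not_dvd_index (dvd_trans hrd (dvd_trans (dvd_mul_left c _) h5))
    · have h4 : Nat.card Q * (Nat.card P * c) ∣ Nat.card Q * (Q : Subgroup G).index := by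
        rw [Subgroup.card_mul_index]
        have e : Nat.card Q * (Nat.card P * c) = Nat.card P * Nat.card Q * c := by ring
        rw [e]; exact hG
      have h5 := Nat.dvd_of_mul_dvd_mul_left Nat.card_pos h4
      rw [h3] at hrd
      exact Q.not_dvd_index (dvd_trans hrd (dvd_trans (dvd_mul_left c _) h5))
  refine ⟨q, ⟨hq⟩, P, Q, case1A p q G, hqp, hAc, ?_, ?_, ?_, ?_⟩
  · rw [hc, hc1, mul_one]
  · rw [hKeq]; exact hHn
  · rw [hKeq, inf_comm]; exact hH.disjoint.eq_bot
  · rw [hKeq, sup_comm]; exact hH.sup_eq_top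

end Cfsg.Agent.Lib.Helper67.TP
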