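import Mathlib
import Cfsg.Agent.Lib.Helper4.TPDefs
import Cfsg.Agent.S4034

/-!
Project TP (S4033), BACK piece RPQ (helper67 for helper4): the Bad configuration passes to the
quotient by an abelian normal `p`-subgroup `B` with constant `|B : B ⊓ Cen w|`.
-/

set_option autoImplicit false

namespace Cfsg.Agent.Lib.Helper4.TP

universe u

/-- a central element maps to a central element of the quotient -/
theorem rpq_helper67_mk_center {G : Type u} [Group G] (B : Subgroup G) [B.Normal] (x : G)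
    (hx : x ∈ Subgroup.center G) :
    (QuotientGroup.mk (s := B) x : G ⧸ B) ∈ Subgroup.center (G ⧸ B) := by
  rw [Subgroup.mem_center_iff]
  intro g
  obtain ⟨g, rfl⟩ := QuotientGroup.mk_surjective g
  rw [← QuotientGroup.mk_mul, ← QuotientGroup.mk_mul, Subgroup.mem_center_iff.1 hx g]

theorem rpq_helper67_index_one {G : Type u} [Group G] (x : G) (hx : x ∈ Subgroup.center G) :
    (Cen x).index = 1 := by
  rw [Subgroup.index_eq_one, Subgroup.centralizer_eq_top_iff_subset]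
  intro y hy
  rw [Set.mem_singleton_iff] at hy
  rw [hy]; exact hx

theorem rpq : RP1Stmt.{u} → RPQStmt.{u} := by
  intro hRP1 G _ _ p m hp hBad B _ hBp hBab hd
  haveI : Fact p.Prime := ⟨hp⟩
  obtain ⟨⟨hm1, ⟨w₀, hw₀⟩, hall⟩, hTwo, hnp⟩ := hBad
  obtain ⟨d, hd⟩ := hd
  obtain ⟨n, hn⟩ := IsPGroup.iff_card.1 hBp
  have hcop : ∀ x : G, PReg p x → (orderOf x).Coprime (Nat.card B) := by
    intro x hx
    rw [hn]; exact Nat.Coprime.pow_right n hx
  have key : ∀ w : G, NC p w →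
      (Cen (QuotientGroup.mk (s := B) w : G ⧸ B)).index * d = m := by
    intro w hw
    have := hRP1 G B hBab w (hcop w hw.1)
    rw [hd w hw, hall w hw] at this
    exact this
  have hdp : ∃ j, d = p ^ j := by
    have h1 : (Cen w₀).relIndex B ∣ Nat.card B := Subgroup.relIndex_dvd_card _ _
    rw [hd w₀ hw₀, hn] at h1
    obtain ⟨j, -, hj⟩ := (Nat.dvd_prime_pow hp).1 h1
    exact ⟨j, hj⟩
  obtain ⟨j, hj⟩ := hdp
  have hm'd : (Cen (QuotientGroup.mk (s := B) w₀ : G ⧸ B)).index * d = m := key w₀ hw₀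
  generalize hm' : (Cen (QuotientGroup.mk (s := B) w₀ : G ⧸ B)).index = m' at hm'd
  have hd0 : d ≠ 0 := by
    rintro rfl
    omega
  have hidx : ∀ w : G, NC p w →
      (Cen (QuotientGroup.mk (s := B) w : G ⧸ B)).index = m' := by
    intro w hw
    have := key w hw
    exact Nat.eq_of_mul_eq_mul_right (Nat.pos_of_ne_zero hd0) (this.trans hm'd.symm)
  have hm'np : ¬ ∃ k, m' = p ^ k := by
    rintro ⟨k, hk⟩
    exact hnp ⟨k + j, by rw [← hm'd, hk, hj, pow_add]⟩
  have hm'1 : 1 < m' := by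
    have h0 : m' ≠ 0 := by
      intro h
      rw [h] at hm'd
      omega
    have h1 : m' ≠ 1 := fun h => hm'np ⟨0, by rw [h, pow_zero]⟩
    omega
  have hNC : ∀ w : G, NC p w → NC p (QuotientGroup.mk (s := B) w : G ⧸ B) := by
    intro w hw
    refine ⟨?_, ?_⟩
    · have h : orderOf ((QuotientGroup.mk' B) w) ∣ orderOf w := orderOf_map_dvd _ w
      exact Nat.Coprime.coprime_dvd_left h hw.1
    · intro hc
      have := rpq_helper67_index_one _ hc
      rw [hidx w hw] at this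
      omega
  refine ⟨m', ⟨hm'1, ⟨_, hNC w₀ hw₀⟩, ?_⟩, ?_, hm'np⟩
  · intro y hy
    obtain ⟨x, rfl, hx⟩ := Cfsg.Agent.S4034.exists_coprime_lift B hp y hy.1
    have hxc : x ∉ Subgroup.center G := fun h => hy.2 (rpq_helper67_mk_center B x h)
    exact hidx x ⟨hx, hxc⟩
  · obtain ⟨q, r, x, z, hq, hr, hqp, hrp, hqr, hxc, hzc, ⟨a, ha⟩, ⟨b, hb⟩⟩ := hTwo
    have hxNC : NC p x :=
      ⟨by unfold PReg; rw [ha]; exact Nat.Coprime.pow_left a ((Nat.coprime_primes hq hp).2 hqp),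
        hxc⟩
    have hzNC : NC p z :=
      ⟨by unfold PReg; rw [hb]; exact Nat.Coprime.pow_left b ((Nat.coprime_primes hr hp).2 hrp),
        hzc⟩
    refine ⟨q, r, QuotientGroup.mk x, QuotientGroup.mk z, hq, hr, hqp, hrp, hqr,
      (hNC x hxNC).2, (hNC z hzNC).2, ?_, ?_⟩
    · have h1 : orderOf ((QuotientGroup.mk' B) x) ∣ q ^ a := ha ▸ orderOf_map_dvd _ x
      obtain ⟨a', -, ha'⟩ := (Nat.dvd_prime_pow hq).1 h1
      exact ⟨a', ha'⟩
    · have h1 : orderOf ((QuotientGroup.mk' B) z) ∣ r ^ b := hb ▸ orderOf_map_dvd _ z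
      obtain ⟨b', -, hb'⟩ := (Nat.dvd_prime_pow hr).1 h1
      exact ⟨b', hb'⟩

end Cfsg.Agent.Lib.Helper4.TP
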