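import Mathlib
import Cfsg.Prelude.Def_GeometricClasses
import Cfsg.Prelude.Def_LieClassical
import Cfsg.Agent.Lib.Helper71.Asch5
import Cfsg.Agent.Lib.Helper82.ASB8UNITS
import Cfsg.Agent.Lib.Helper44.BADDefs

/-! Project BAD (helper44; sub-project of helper49's SUG = S5663), piece ENORM (helper67):
a tensor product of two unitary matrices normalises `E`. -/

set_option autoImplicit false

namespace Cfsg.Agent.Lib.Helper44.BAD

open Matrix Cfsg.Geo Cfsg.Agent.Lib.Helper71.Asch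
open scoped Kronecker

variable {n : ℕ} {F : Type*} [Field F] [Fintype F] {q : ℕ}

/-- forward inclusion: `h E h⁻¹ ⊆ E` -/
theorem ENORM_fwd (e : Fin n ≃ Fin 3 × Fin 3) (P : GL (Fin n) F) (E : Subgroup (GL (Fin n) F))
    (hE : EIs e P E) (hnorm : SNORMp F) (h : GL (Fin n) F) (a b : Matrix (Fin 3) (Fin 3) F)
    (ha : a ∈ bU F 2) (hb : b ∈ bU F 2) (hh : h.1 = tmat e P a b) (x : GL (Fin n) F)
    (hx : x ∈ E) : h * x * h⁻¹ ∈ E := by
  obtain ⟨a', ha', b', hb', hxab⟩ := (hE x).1 hx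
  obtain ⟨A', hA', hA⟩ := hnorm a ha a' ha'
  obtain ⟨B', hB', hB⟩ := hnorm b hb b' hb'
  refine (hE _).2 ⟨A', hA', B', hB', ?_⟩
  have h1 : h.1 * x.1 = tmat e P A' B' * h.1 := by
    rw [hh, hxab, Cfsg.Agent.Lib.Helper82.ASB8UNITS.tmat_mul, hA, hB,
      ← Cfsg.Agent.Lib.Helper82.ASB8UNITS.tmat_mul]
  rw [Units.val_mul, Units.val_mul, h1, Matrix.mul_assoc,
    Cfsg.Agent.Lib.Helper82.ASB8UNITS.mul_inv_val, Matrix.mul_one]

/-- ENORM: a tensor product of two unitary matrices normalises `E`. -/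
theorem ENORM (e : Fin n ≃ Fin 3 × Fin 3) (P : GL (Fin n) F) (E : Subgroup (GL (Fin n) F))
    (hE : EIs e P E) (hnorm : SNORMp F) (h : GL (Fin n) F) (a b : Matrix (Fin 3) (Fin 3) F)
    (ha : a ∈ bU F 2) (hb : b ∈ bU F 2) (hh : h.1 = tmat e P a b) :
    h ∈ Subgroup.normalizer (E : Set (GL (Fin n) F)) := by
  classical
  have hf := ENORM_fwd e P E hE hnorm h a b ha hb hh
  have hpow : ∀ j : ℕ, ∀ x ∈ E, h ^ j * x * (h ^ j)⁻¹ ∈ E := by
    intro j
    induction j with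
    | zero =>
      intro x hx
      simpa using hx
    | succ j ih =>
      intro x hx
      have h2 := hf _ (ih x hx)
      have e2 : h ^ (j + 1) * x * (h ^ (j + 1))⁻¹ = h * (h ^ j * x * (h ^ j)⁻¹) * h⁻¹ := by
        rw [pow_succ']
        group
      rw [e2]
      exact h2
  have hfin : IsOfFinOrder h := isOfFinOrder_of_finite h
  have hk : 0 < orderOf h := hfin.orderOf_pos
  have hinv : h ^ (orderOf h - 1) = h⁻¹ := by
    apply eq_inv_of_mul_eq_one_left
    rw [← pow_succ, Nat.sub_add_cancel hk, pow_orderOf_eq_one]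
  rw [Subgroup.mem_normalizer_iff]
  intro x
  constructor
  · exact hf x
  · intro hx
    have h3 := hpow (orderOf h - 1) _ hx
    rw [hinv] at h3
    have e3 : h⁻¹ * (h * x * h⁻¹) * h⁻¹⁻¹ = x := by group
    rw [e3] at h3
    exact h3

end Cfsg.Agent.Lib.Helper44.BAD
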