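import Cfsg.Agent.Lib.Helper15.BG13CDefs
import Cfsg.Agent.S0055

/-!
# B&G Corollary 13.3(b) (row S1428): piece COMMFREE (helper67 for helper15)

Coprime action of a group `R` of prime order on an abelian group `Q`.
-/

set_option autoImplicit false

open Cfsg Cfsg.Agent.Lib.Helper32 Cfsg.Agent.Lib.Helper32.BG10 Cfsg.Agent.Lib.Helper3.BG12

namespace Cfsg.Agent.Lib.Helper15.BG13C

universe u

open scoped commutatorElement

variable {G : Type u} [Group G] [Finite G]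

omit [Finite G] in
theorem commfree_conj_mem (Q R : Subgroup G) (hRQ : R ≤ Subgroup.normalizer (Q : Set G))
    (z : G) (hz : z ∈ R) : ∀ h ∈ (⁅Q, R⁆ : Subgroup G), z * h * z⁻¹ ∈ (⁅Q, R⁆ : Subgroup G) := by
  have hle : (⁅Q, R⁆ : Subgroup G) ≤ (⁅Q, R⁆ : Subgroup G).comap (MulAut.conj z).toMonoidHom := by
    rw [Subgroup.commutator_le]
    intro g₁ hg₁ g₂ hg₂
    rw [Subgroup.mem_comap]
    have h1 : z * g₁ * z⁻¹ ∈ Q := (Subgroup.mem_normalizer_iff.1 (hRQ hz) g₁).1 hg₁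
    have h2 : z * g₂ * z⁻¹ ∈ R := R.mul_mem (R.mul_mem hz hg₂) (R.inv_mem hz)
    have h3 : (MulAut.conj z).toMonoidHom ⁅g₁, g₂⁆ = ⁅z * g₁ * z⁻¹, z * g₂ * z⁻¹⁆ := by
      simp only [MulEquiv.toMonoidHom_eq_coe, MonoidHom.coe_coe, MulAut.conj_apply,
        commutatorElement_def]
      group
    rw [h3]
    exact Subgroup.commutator_mem_commutator h1 h2
  intro h hh
  have := hle hh
  rw [Subgroup.mem_comap] at this
  simpa using this

omit [Finite G] in
theorem commfree_norm (Q R : Subgroup G) (hRQ : R ≤ Subgroup.normalizer (Q : Set G)) :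
    R ≤ Subgroup.normalizer ((⁅Q, R⁆ : Subgroup G) : Set G) := by
  intro z hz
  rw [Subgroup.mem_normalizer_iff]
  intro h
  constructor
  · exact commfree_conj_mem Q R hRQ z hz h
  · intro hh
    have := commfree_conj_mem Q R hRQ z⁻¹ (R.inv_mem hz) _ hh
    have e : z⁻¹ * (z * h * z⁻¹) * z⁻¹⁻¹ = h := by group
    rwa [e] at this

omit [Finite G] in
theorem commfree_cent (R : Subgroup G) (hR : (Nat.card R).Prime) (a z : G) (hz : z ∈ R)
    (hz1 : z ≠ 1) (hza : z * a = a * z) : a ∈ Subgroup.centralizer (R : Set G) := by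
  haveI : Fact (Nat.card R).Prime := ⟨hR⟩
  rw [Subgroup.mem_centralizer_iff]
  intro r hr
  have hz1' : (⟨z, hz⟩ : R) ≠ 1 := by
    intro h
    exact hz1 (by simpa using congrArg Subtype.val h)
  have hmem : (⟨r, hr⟩ : R) ∈ Subgroup.zpowers (⟨z, hz⟩ : R) :=
    mem_zpowers_of_prime_card rfl hz1'
  obtain ⟨k, hk⟩ := Subgroup.mem_zpowers_iff.1 hmem
  have hk' : z ^ k = r := by simpa using congrArg Subtype.val hk
  have hc : Commute z a := hza
  have := (hc.zpow_left k).eq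
  rw [hk'] at this
  exact this

theorem commfree : CommFreeStmt G := by
  intro Q R hQ hR hcop hRQ
  haveI := hQ
  obtain ⟨hbot, hsup⟩ := Cfsg.Agent.S0055.result R Q hRQ hcop
  have hle : (⁅Q, R⁆ : Subgroup G) ≤ Q := by
    rw [Subgroup.commutator_le]
    intro g₁ hg₁ g₂ hg₂
    have h1 : g₂ * g₁⁻¹ * g₂⁻¹ ∈ Q :=
      (Subgroup.mem_normalizer_iff.1 (hRQ hg₂) g₁⁻¹).1 (Q.inv_mem hg₁)
    have e : ⁅g₁, g₂⁆ = g₁ * (g₂ * g₁⁻¹ * g₂⁻¹) := by
      rw [commutatorElement_def]; group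
    rw [e]
    exact Q.mul_mem hg₁ h1
  refine ⟨commfree_norm Q R hRQ, hle, ?_, hsup, hbot, ?_⟩
  · intro a ha z hz hz1 hza
    have hc := commfree_cent R hR a z hz hz1 hza
    have : a ∈ (Q ⊓ Subgroup.centralizer (R : Set G)) ⊓ (⁅Q, R⁆ : Subgroup G) :=
      ⟨⟨hle ha, hc⟩, ha⟩
    rw [hbot] at this
    exact Subgroup.mem_bot.1 this
  · intro hnc hb
    apply hnc
    rw [Subgroup.commutator_eq_bot_iff_le_centralizer] at hb
    exact Subgroup.le_centralizer_iff.1 hb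

end Cfsg.Agent.Lib.Helper15.BG13C
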