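import Mathlib
import Cfsg.Prelude.Def_Blocks

set_option autoImplicit false
set_option linter.style.haveILetI false
set_option linter.unusedSectionVars false

namespace Cfsg.Agent.Lib.Helper67.DO

open Polynomial

/-- a multiset all of whose multiplicities are divisible by `d`: every filter has card
divisible by `d` -/
theorem rm_card_filter_dvd {α : Type*} [DecidableEq α] (s : Multiset α) (d : ℕ)
    (h : ∀ a, d ∣ s.count a) (P : α → Prop) [DecidablePred P] :
    d ∣ Multiset.card (s.filter P) := by
  rw [← Multiset.toFinset_sum_count_eq]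
  apply Finset.dvd_sum
  intro a _
  rw [Multiset.count_filter]
  split_ifs
  · exact h a
  · exact dvd_zero d

/-- for an idempotent over a field, the multiplicity of the root `1` of the characteristic
polynomial is the rank -/
theorem rm_idem_rootMult {K V : Type*} [Field K] [AddCommGroup V] [Module K V]
    [Module.Finite K V] (e : Module.End K V) (he : e ∘ₗ e = e) :
    e.charpoly.rootMultiplicity 1 = Module.finrank K (LinearMap.range e) := by
  have hEq : Module.End.maxGenEigenspace e 1 = LinearMap.range e := by
    ext x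
    rw [Module.End.mem_maxGenEigenspace, LinearMap.mem_range]
    constructor
    · rintro ⟨k, hk⟩
      have key : ∀ k : ℕ, ∀ x : V,
          ((e - (1 : K) • (1 : Module.End K V)) ^ k) x = 0 → e x = x := by
        intro k
        induction k with
        | zero =>
          intro x hx
          rw [pow_zero, Module.End.one_apply] at hx
          rw [hx, map_zero]
        | succ k ih =>
          intro x hx
          rw [pow_succ, Module.End.mul_apply] at hx
          have h1 := ih _ hx
          simp only [one_smul, LinearMap.sub_apply, Module.End.one_apply, map_sub] at h1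
          have h2 : e (e x) = e x := by rw [← LinearMap.comp_apply, he]
          rw [h2, sub_self] at h1
          exact sub_eq_zero.mp h1.symm
      exact ⟨x, key k x hk⟩
    · rintro ⟨y, rfl⟩
      refine ⟨1, ?_⟩
      simp only [pow_one, one_smul, LinearMap.sub_apply, Module.End.one_apply]
      rw [← LinearMap.comp_apply, he, sub_self]
  rw [← LinearMap.finrank_maxGenEigenspace_eq, hEq]

variable {X : Type*} [AddCommGroup X] [Module.Free ℤ X] [Module.Finite ℤ X]

theorem dvd_rank_of_rootMult (p : ℕ) [Fact p.Prime] (M : Ideal Cfsg.AlgInt)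
    (hM : Cfsg.IsPModular p M)
    (lam mu : X →ₗ[ℤ] X) (hidem : lam ∘ₗ lam - lam = (p : ℤ) • mu) (d : ℕ)
    (hmult : ∀ θ : ℂ, d ∣ ((LinearMap.charpoly lam).map (algebraMap ℤ ℂ)).rootMultiplicity θ) :
    d ∣ Module.finrank (ZMod p) (LinearMap.range (lam.baseChange (ZMod p))) := by
  classical
  have hee : lam.baseChange (ZMod p) ∘ₗ lam.baseChange (ZMod p) = lam.baseChange (ZMod p) := by
    have h1 : (lam ∘ₗ lam - lam).baseChange (ZMod p) = ((p : ℤ) • mu).baseChange (ZMod p) := by
      rw [hidem]
    have h2 : ((p : ℤ) • mu).baseChange (ZMod p) = 0 := by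
      ext x
      simp only [LinearMap.baseChange_tmul, LinearMap.smul_apply,
        TensorProduct.AlgebraTensorModule.curry_apply, LinearMap.restrictScalars_apply,
        TensorProduct.curry_apply, LinearMap.zero_apply]
      rw [← TensorProduct.smul_tmul]
      simp
    rw [h2, LinearMap.baseChange_sub, LinearMap.baseChange_comp] at h1
    exact sub_eq_zero.mp h1
  have hr := rm_idem_rootMult (lam.baseChange (ZMod p)) hee
  rw [LinearMap.charpoly_baseChange] at hr
  rw [← hr]
  haveI : M.IsMaximal := hM.2.1
  haveI : M.IsPrime := hM.2.1.isPrime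
  have hpk : ((p : ℕ) : Cfsg.AlgInt ⧸ M) = 0 := by
    have h1 := Ideal.Quotient.eq_zero_iff_mem.mpr hM.2.2
    simpa using h1
  haveI : CharP (Cfsg.AlgInt ⧸ M) p := (CharP.charP_iff_prime_eq_zero (Fact.out)).mpr hpk
  let ι : ZMod p →+* (Cfsg.AlgInt ⧸ M) := ZMod.castHom (dvd_refl p) _
  have hι : Function.Injective ι := RingHom.injective ι
  set F := LinearMap.charpoly lam with hF
  have hB : (F.map (algebraMap ℤ (ZMod p))).rootMultiplicity 1 =
      (F.map (Int.castRingHom (Cfsg.AlgInt ⧸ M))).rootMultiplicity 1 := by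
    have h1 : F.map (Int.castRingHom (Cfsg.AlgInt ⧸ M)) = (F.map (algebraMap ℤ (ZMod p))).map ι := by
      rw [Polynomial.map_map]
      congr 1
      exact RingHom.ext_int _ _
    rw [h1, Polynomial.eq_rootMultiplicity_map hι 1, map_one]
  rw [hB]
  set Fc := F.map (algebraMap ℤ ℂ) with hFc
  have hFm : F.Monic := LinearMap.charpoly_monic lam
  have hFcm : Fc.Monic := hFm.map _
  have hint : ∀ θ ∈ Fc.roots, θ ∈ Cfsg.AlgInt := by
    intro θ hθ
    have h0 : Fc.IsRoot θ := (Polynomial.mem_roots hFcm.ne_zero).mp hθ
    refine ⟨F, hFm, ?_⟩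
    rw [← Polynomial.eval_map]
    exact h0
  obtain ⟨Θ, hΘ⟩ : ∃ Θ : Multiset Cfsg.AlgInt, Θ.map (algebraMap Cfsg.AlgInt ℂ) = Fc.roots := by
    refine ⟨Fc.roots.attach.map (fun θ => ⟨θ.1, hint θ.1 θ.2⟩), ?_⟩
    rw [Multiset.map_map]
    exact Multiset.attach_map_val _
  have hinj : Function.Injective (algebraMap Cfsg.AlgInt ℂ) := Subtype.val_injective
  have hFA : F.map (algebraMap ℤ Cfsg.AlgInt) = (Θ.map (fun a => Polynomial.X - Polynomial.C a)).prod := by
    apply Polynomial.map_injective (algebraMap Cfsg.AlgInt ℂ) hinj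
    rw [Polynomial.map_map, ← IsScalarTower.algebraMap_eq, Polynomial.map_multiset_prod,
      Multiset.map_map]
    have h1 := Polynomial.prod_multiset_X_sub_C_of_monic_of_roots_card_eq hFcm
      IsAlgClosed.card_roots_eq_natDegree
    rw [← hFc, ← h1, ← hΘ, Multiset.map_map]
    congr 1
    apply Multiset.map_congr rfl
    intro a _
    simp
  have hFk : F.map (Int.castRingHom (Cfsg.AlgInt ⧸ M)) =
      ((Θ.map (Ideal.Quotient.mk M)).map (fun a => Polynomial.X - Polynomial.C a)).prod := by
    have h1 : F.map (Int.castRingHom (Cfsg.AlgInt ⧸ M)) =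
        (F.map (algebraMap ℤ Cfsg.AlgInt)).map (Ideal.Quotient.mk M) := by
      rw [Polynomial.map_map]
      congr 1
    rw [h1, hFA, Polynomial.map_multiset_prod, Multiset.map_map, Multiset.map_map]
    congr 1
    apply Multiset.map_congr rfl
    intro a _
    simp
  have hroots : (F.map (Int.castRingHom (Cfsg.AlgInt ⧸ M))).roots =
      Θ.map (Ideal.Quotient.mk M) := by
    rw [hFk, Polynomial.roots_multiset_prod_X_sub_C]
  rw [← Polynomial.count_roots, hroots, Multiset.count_map]
  apply rm_card_filter_dvd
  intro a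
  have h1 : Θ.count a = Fc.roots.count (a : ℂ) := by
    rw [← hΘ]
    exact (Multiset.count_map_eq_count' _ _ hinj a).symm
  rw [h1, Polynomial.count_roots]
  exact hmult _

end Cfsg.Agent.Lib.Helper67.DO
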