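import Mathlib
import Cfsg.Agent.Lib.Helper4.FCDefs

/-! Project FC (S4146, helper4), piece MSUB (helper67): the elements of class size `1` or `m`
form a normal subgroup when `m < n`. -/

set_option autoImplicit false

namespace Cfsg.Agent.Lib.Helper4.FC

universe u

theorem msub_helper67_mem_cen {G : Type u} [Group G] (x h : G) : h ∈ Cen x ↔ x * h = h * x := by
  rw [Subgroup.mem_centralizer_iff]
  constructor
  · intro H
    exact H x rfl
  · intro H z hz
    rw [Set.mem_singleton_iff.mp hz]
    exact H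

theorem msub_helper67_cs_one {G : Type u} [Group G] : cs (1 : G) = 1 := by
  show (Cen (1 : G)).index = 1
  rw [Subgroup.index_eq_one, eq_top_iff]
  intro h _
  rw [msub_helper67_mem_cen]
  simp

theorem msub_helper67_cs_inv {G : Type u} [Group G] (x : G) : cs x⁻¹ = cs x := by
  have h1 : Cen x⁻¹ = Cen x := by
    ext h
    rw [msub_helper67_mem_cen, msub_helper67_mem_cen]
    constructor
    · intro H
      calc x * h = x * (h * x⁻¹) * x := by group
        _ = x * (x⁻¹ * h) * x := by rw [H]
        _ = h * x := by group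
    · intro H
      calc x⁻¹ * h = x⁻¹ * (h * x) * x⁻¹ := by group
        _ = x⁻¹ * (x * h) * x⁻¹ := by rw [H]
        _ = h * x⁻¹ := by group
  show (Cen x⁻¹).index = (Cen x).index
  rw [h1]

theorem msub_helper67_cs_conj {G : Type u} [Group G] (g x : G) : cs (g * x * g⁻¹) = cs x := by
  have h1 : Cen (g * x * g⁻¹) = (Cen x).map ((MulAut.conj g : G ≃* G) : G →* G) := by
    ext h
    rw [msub_helper67_mem_cen, Subgroup.mem_map]
    constructor
    · intro H
      refine ⟨g⁻¹ * h * g, ?_, ?_⟩
      · rw [msub_helper67_mem_cen]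
        calc x * (g⁻¹ * h * g) = g⁻¹ * ((g * x * g⁻¹) * h) * g := by group
          _ = g⁻¹ * (h * (g * x * g⁻¹)) * g := by rw [H]
          _ = g⁻¹ * h * g * x := by group
      · show MulAut.conj g (g⁻¹ * h * g) = h
        rw [MulAut.conj_apply]
        group
    · rintro ⟨c, hc, rfl⟩
      rw [msub_helper67_mem_cen] at hc
      show g * x * g⁻¹ * MulAut.conj g c = MulAut.conj g c * (g * x * g⁻¹)
      rw [MulAut.conj_apply]
      calc g * x * g⁻¹ * (g * c * g⁻¹) = g * (x * c) * g⁻¹ := by group
        _ = g * (c * x) * g⁻¹ := by rw [hc]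
        _ = g * c * g⁻¹ * (g * x * g⁻¹) := by group
  show (Cen (g * x * g⁻¹)).index = (Cen x).index
  rw [h1]
  exact Subgroup.index_map_equiv _ (MulAut.conj g)

theorem msub_helper67_key {G : Type u} [Group G] [Finite G] (n m : ℕ) (hF : Four G n m)
    (hmn : m < n) (x y : G) (hx : cs x = 1 ∨ cs x = m) (hy : cs y = 1 ∨ cs y = m) :
    cs (x * y) = 1 ∨ cs (x * y) = m := by
  obtain ⟨h1n, h1m, hcop, hcs, -, -, -⟩ := hF
  by_contra hcon
  have hn : n ∣ cs (x * y) := by
    rcases hcs (x * y) with h | h | h | h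
    · exact absurd (Or.inl h) hcon
    · rw [h]
    · exact absurd (Or.inr h) hcon
    · rw [h]
      exact dvd_mul_right n m
  have hle : Cen x ⊓ Cen y ≤ Cen (x * y) := by
    intro h hh
    obtain ⟨hhx, hhy⟩ := Subgroup.mem_inf.mp hh
    rw [msub_helper67_mem_cen] at hhx hhy ⊢
    rw [mul_assoc, hhy, ← mul_assoc, hhx, mul_assoc]
  have hd : cs (x * y) ∣ (Cen x ⊓ Cen y).index := Subgroup.index_dvd_of_le hle
  have hI : (Cen x ⊓ Cen y).relIndex (Cen x) * (Cen x).index = (Cen x ⊓ Cen y).index :=
    Subgroup.relIndex_mul_index inf_le_left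
  have hI0 : (Cen x ⊓ Cen y).index ≠ 0 := Subgroup.index_ne_zero_of_finite
  have hle2 : (Cen x ⊓ Cen y).index ≤ (Cen x).index * (Cen y).index :=
    Subgroup.index_inf_le
  have hcx : (cs x).Coprime n := by
    rcases hx with h | h
    · rw [h]
      exact Nat.coprime_one_left n
    · rw [h]
      exact hcop.symm
  have hnr : n ∣ (Cen x ⊓ Cen y).relIndex (Cen x) := by
    have h2 : n ∣ (Cen x ⊓ Cen y).relIndex (Cen x) * (Cen x).index := by
      rw [hI]
      exact hn.trans hd
    exact hcx.symm.dvd_of_dvd_mul_right h2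
  have hcx0 : 0 < (Cen x).index := by
    have h3 : (Cen x).index ≠ 0 := Subgroup.index_ne_zero_of_finite
    omega
  have hr0 : (Cen x ⊓ Cen y).relIndex (Cen x) ≠ 0 := by
    intro h0
    rw [h0, zero_mul] at hI
    exact hI0 hI.symm
  have hnle : n ≤ (Cen x ⊓ Cen y).relIndex (Cen x) :=
    Nat.le_of_dvd (Nat.pos_of_ne_zero hr0) hnr
  have hry : (Cen x ⊓ Cen y).relIndex (Cen x) ≤ (Cen y).index := by
    have h4 : (Cen x ⊓ Cen y).relIndex (Cen x) * (Cen x).index
        ≤ (Cen y).index * (Cen x).index := by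
      rw [hI, mul_comm (Cen y).index]
      exact hle2
    exact Nat.le_of_mul_le_mul_right h4 hcx0
  have hym : (Cen y).index ≤ m := by
    rcases hy with h | h
    · have h5 : (Cen y).index = 1 := h
      omega
    · have h5 : (Cen y).index = m := h
      omega
  omega

/-- PIECE MSUB -/
theorem fc_msub : MSubStmt.{u} := by
  intro G _ _ n m hF hmn
  refine ⟨{ carrier := {x | cs x = 1 ∨ cs x = m}
            mul_mem' := fun {a b} ha hb => msub_helper67_key n m hF hmn a b ha hb
            one_mem' := Or.inl msub_helper67_cs_one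
            inv_mem' := fun {a} ha => by
              show cs a⁻¹ = 1 ∨ cs a⁻¹ = m
              rw [msub_helper67_cs_inv]
              exact ha }, ?_, fun x => Iff.rfl⟩
  constructor
  intro x hx g
  show cs (g * x * g⁻¹) = 1 ∨ cs (g * x * g⁻¹) = m
  rw [msub_helper67_cs_conj]
  exact hx

end Cfsg.Agent.Lib.Helper4.FC
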